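import Groth.Prelude.Def_KZero
import Mathlib.CategoryTheory.Abelian.Refinements
import Mathlib.Algebra.Homology.ShortComplex.Abelian
import Mathlib.CategoryTheory.Preadditive.Biproducts

/-! # Classes in `KZero.K0` of kernels, cokernels, homology and finite sums -/

set_option autoImplicit false

universe v u

open CategoryTheory CategoryTheory.Limits ZeroObject

namespace K0SerreLib

variable {A : Type u} [Category.{v} A] [Abelian A]

theorem cl_add (S : ShortComplex A) (hS : S.ShortExact) : KZero.cl S.X₂ = KZero.cl S.X₁ + KZero.cl S.X₃ := by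
  unfold KZero.cl
  rw [← QuotientAddGroup.mk_add, QuotientAddGroup.eq_iff_sub_mem]
  exact AddSubgroup.subset_closure ⟨S, hS, by abel⟩

theorem cl_isZero {X : A} (hX : IsZero X) : KZero.cl X = 0 := by
  have hS : (ShortComplex.mk (0 : X ⟶ X) (0 : X ⟶ X) zero_comp).ShortExact :=
    { exact := ShortComplex.exact_of_isZero_X₂ _ hX
      mono_f := ⟨fun _ _ _ => hX.eq_of_tgt _ _⟩
      epi_g := ⟨fun _ _ _ => hX.eq_of_src _ _⟩ }
  exact add_eq_left.1 (cl_add _ hS).symm

theorem cl_iso {X Y : A} (e : X ≅ Y) : KZero.cl X = KZero.cl Y := by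
  have hS : (ShortComplex.mk e.hom (0 : Y ⟶ (0 : A)) comp_zero).ShortExact :=
    { exact := (ShortComplex.exact_iff_epi _ rfl).2 inferInstance
      mono_f := inferInstance
      epi_g := ⟨fun _ _ _ => (isZero_zero A).eq_of_src _ _⟩ }
  exact (((cl_add _ hS).trans (by rw [cl_isZero (isZero_zero A), add_zero]))).symm

theorem cl_mono {X Y : A} (i : X ⟶ Y) [Mono i] : KZero.cl Y = KZero.cl X + KZero.cl (cokernel i) :=
  cl_add (ShortComplex.mk i (cokernel.π i) (cokernel.condition i))
    { exact := ShortComplex.exact_of_g_is_cokernel _ (cokernelIsCokernel i) }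

theorem cl_epi {X Y : A} (p : X ⟶ Y) [Epi p] : KZero.cl X = KZero.cl (kernel p) + KZero.cl Y :=
  cl_add (ShortComplex.mk (kernel.ι p) p (kernel.condition p))
    { exact := ShortComplex.exact_of_f_is_kernel _ (kernelIsKernel p) }

/-- The basic identity `[X] + [coker f] = [ker f] + [Y]`. -/
theorem cl_hom {X Y : A} (f : X ⟶ Y) :
    KZero.cl X + KZero.cl (cokernel f) = KZero.cl (kernel f) + KZero.cl Y := by
  have h1 : KZero.cl X = KZero.cl (kernel f) + KZero.cl (Abelian.image f) := by
    refine (cl_epi (Abelian.factorThruImage f)).trans ?_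
    refine congrArg (· + _) (cl_iso ?_)
    exact (kernelCompMono _ (Abelian.image.ι f)).symm ≪≫ kernelIsoOfEq (Abelian.image.fac f)
  have h2 : KZero.cl Y = KZero.cl (Abelian.image f) + KZero.cl (cokernel f) := by
    refine (cl_mono (Abelian.image.ι f)).trans ?_
    refine congrArg (_ + ·) (cl_iso ?_)
    exact (cokernelEpiComp (Abelian.factorThruImage f) (Abelian.image.ι f)).symm ≪≫
      cokernelIsoOfEq (Abelian.image.fac f)
  rw [h1, h2]; abel

theorem cl_homology (S : ShortComplex A) :
    KZero.cl S.homology = KZero.cl (kernel S.g) + KZero.cl (kernel S.f) - KZero.cl S.X₁ := by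
  have h1 := cl_hom S.toCycles
  have e1 : cokernel S.toCycles ≅ S.homology :=
    (cokernelIsCokernel S.toCycles).coconePointUniqueUpToIso S.homologyIsCokernel
  have e2 : kernel S.toCycles ≅ kernel S.f :=
    (kernelCompMono _ S.iCycles).symm ≪≫ kernelIsoOfEq S.toCycles_i
  have e3 : S.cycles ≅ kernel S.g := S.cyclesIsoKernel
  rw [cl_iso e1, cl_iso e2, cl_iso e3] at h1
  rw [eq_sub_iff_add_eq, add_comm, h1, add_comm]

theorem cl_biprod (X Y : A) : KZero.cl (X ⊞ Y) = KZero.cl X + KZero.cl Y :=
  cl_add (ShortComplex.mk (biprod.inl : X ⟶ X ⊞ Y) (biprod.snd : X ⊞ Y ⟶ Y) biprod.inl_snd)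
    (ShortComplex.Splitting.ofHasBinaryBiproduct X Y).shortExact

/-- The sum of a list of objects. -/
noncomputable def bsum : List A → A
  | [] => 0
  | X :: l => X ⊞ bsum l

/-- The formal sum of a list of objects. -/
def fsum (l : List A) : FreeAbelianGroup A := (l.map FreeAbelianGroup.of).sum

theorem fsum_append (l l' : List A) : fsum (l ++ l') = fsum l + fsum l' := by
  simp [fsum, List.sum_append]

theorem bsum_append : ∀ l l' : List A, Nonempty (bsum (l ++ l') ≅ bsum l ⊞ bsum l')
  | [], l' => ⟨(isoZeroBiprod (isZero_zero A))⟩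
  | X :: l, l' => ⟨biprod.mapIso (Iso.refl X) (bsum_append l l').some ≪≫
      (biprod.associator X (bsum l) (bsum l')).symm⟩

theorem bsum_perm {l l' : List A} (h : l.Perm l') : Nonempty (bsum l ≅ bsum l') := by
  induction h with
  | nil => exact ⟨Iso.refl _⟩
  | cons x _ ih => exact ⟨biprod.mapIso (Iso.refl x) ih.some⟩
  | swap x y l =>
    exact ⟨(biprod.associator y x (bsum l)).symm ≪≫
      biprod.mapIso (biprod.braiding y x) (Iso.refl _) ≪≫ biprod.associator x y (bsum l)⟩
  | trans _ _ ih1 ih2 => exact ⟨ih1.some ≪≫ ih2.some⟩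

theorem cl_bsum : ∀ l : List A, KZero.cl (bsum l) = QuotientAddGroup.mk (fsum l)
  | [] => cl_isZero (isZero_zero A)
  | X :: l => by
    rw [bsum, cl_biprod, cl_bsum l, show fsum (X :: l) = FreeAbelianGroup.of X + fsum l from by simp [fsum],
      QuotientAddGroup.mk_add]
    rfl

theorem perm_of_fsum_eq {l l' : List A} (h : fsum l = fsum l') : l.Perm l' := by
  classical
  rw [List.perm_iff_count]
  intro a
  have key : ∀ l : List A, FreeAbelianGroup.lift (fun b => if b = a then (1 : ℤ) else 0) (fsum l) = (l.count a : ℤ) := by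
    intro l
    induction l with
    | nil => simp [fsum]
    | cons b l ih =>
      simp only [fsum, List.map_cons, List.sum_cons, map_add, FreeAbelianGroup.lift_apply_of, List.count_cons] at ih ⊢
      rw [ih]
      by_cases hb : b = a <;> simp [hb, add_comm]
  have := key l
  rw [h, key l'] at this
  exact_mod_cast this.symm

end K0SerreLib
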