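import Groth.Agent.K0SerreLib.Basic
import Mathlib.CategoryTheory.ObjectProperty.ContainsZero
import Mathlib.CategoryTheory.Abelian.SerreClass.Basic

/-! # The kernel of `K₀(P) → K₀(A)` and two-periodic complexes -/

set_option autoImplicit false

universe v u

open CategoryTheory CategoryTheory.Limits ZeroObject

namespace K0SerreLib

variable {A : Type u} [Category.{v} A] [Abelian A]

/-- The two-periodic exact sequences realising an element of the relations. -/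
def Realizes (z : FreeAbelianGroup A) : Prop :=
  ∃ (l₀ l₁ : List A) (φ : bsum l₀ ⟶ bsum l₁) (ψ : bsum l₁ ⟶ bsum l₀) (h₁ : φ ≫ ψ = 0) (h₂ : ψ ≫ φ = 0),
    (ShortComplex.mk φ ψ h₁).Exact ∧ (ShortComplex.mk ψ φ h₂).Exact ∧ fsum l₀ - fsum l₁ = z

theorem exact_map {X₁ X₂ Y₁ Y₂ Z₁ Z₂ : A} {a : X₁ ⟶ Y₁} {b : Y₁ ⟶ Z₁} (w : a ≫ b = 0)
    {a' : X₂ ⟶ Y₂} {b' : Y₂ ⟶ Z₂} (w' : a' ≫ b' = 0)
    (h : (ShortComplex.mk a b w).Exact) (h' : (ShortComplex.mk a' b' w').Exact)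
    (w'' : biprod.map a a' ≫ biprod.map b b' = 0) :
    (ShortComplex.mk (biprod.map a a') (biprod.map b b') w'').Exact := by
  rw [ShortComplex.exact_iff_exact_up_to_refinements]
  intro T m hm
  dsimp at m hm ⊢
  have h1 := hm =≫ biprod.fst
  have h2 := hm =≫ biprod.snd
  rw [Category.assoc, biprod.map_fst, ← Category.assoc, zero_comp] at h1
  rw [Category.assoc, biprod.map_snd, ← Category.assoc, zero_comp] at h2
  obtain ⟨T', π, hπ, x, hx⟩ := h.exact_up_to_refinements (m ≫ biprod.fst) h1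
  obtain ⟨T'', π', hπ', x', hx'⟩ := h'.exact_up_to_refinements (π ≫ m ≫ biprod.snd) (by simp [h2])
  dsimp at x hx x' hx'
  refine ⟨T'', π' ≫ π, epi_comp _ _, biprod.lift (π' ≫ x) x', ?_⟩
  apply biprod.hom_ext
  · simp [hx]
  · simp [hx']

theorem exact_conj {X₁ X₂ X₃ Y₁ Y₂ Y₃ : A} {a : X₁ ⟶ X₂} {b : X₂ ⟶ X₃} (w : a ≫ b = 0)
    {a' : Y₁ ⟶ Y₂} {b' : Y₂ ⟶ Y₃} (w' : a' ≫ b' = 0) (e₁ : Y₁ ≅ X₁) (e₂ : Y₂ ≅ X₂) (e₃ : Y₃ ≅ X₃)
    (ha : a' = e₁.hom ≫ a ≫ e₂.inv) (hb : b' = e₂.hom ≫ b ≫ e₃.inv)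
    (h : (ShortComplex.mk a b w).Exact) : (ShortComplex.mk a' b' w').Exact :=
  ShortComplex.exact_of_iso (ShortComplex.isoMk e₁.symm e₂.symm e₃.symm (by simp [ha]) (by simp [hb])) h

theorem realizes_of_mem {z : FreeAbelianGroup A} (hz : z ∈ KZero.relAb A) : Realizes z := by
  induction hz using AddSubgroup.closure_induction with
  | mem z hz =>
    obtain ⟨S, hS, rfl⟩ := hz
    haveI := hS.mono_f
    haveI := hS.epi_g
    haveI : IsIso (biprod.fst : S.X₃ ⊞ (0 : A) ⟶ S.X₃) :=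
      ⟨biprod.inl, biprod.hom_ext _ _ (by simp) ((isZero_zero A).eq_of_tgt _ _), biprod.inl_fst⟩
    let φ : S.X₂ ⊞ (0 : A) ⟶ S.X₁ ⊞ (S.X₃ ⊞ (0 : A)) :=
      (biprod.fst : S.X₂ ⊞ (0 : A) ⟶ S.X₂) ≫ S.g ≫ (biprod.inl : S.X₃ ⟶ S.X₃ ⊞ (0 : A)) ≫ biprod.inr
    let ψ : S.X₁ ⊞ (S.X₃ ⊞ (0 : A)) ⟶ S.X₂ ⊞ (0 : A) :=
      (biprod.fst : S.X₁ ⊞ (S.X₃ ⊞ (0 : A)) ⟶ S.X₁) ≫ S.f ≫ (biprod.inl : S.X₂ ⟶ S.X₂ ⊞ (0 : A))
    have hφψ : φ ≫ ψ = 0 := by simp [φ, ψ]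
    have hψφ : ψ ≫ φ = 0 := by simp [φ, ψ]
    refine ⟨[S.X₂], [S.X₁, S.X₃], φ, ψ, hφψ, hψφ, ?_, ?_, ?_⟩
    · rw [ShortComplex.exact_iff_exact_up_to_refinements]
      intro T m hm
      change T ⟶ S.X₁ ⊞ (S.X₃ ⊞ (0 : A)) at m
      change m ≫ biprod.fst ≫ S.f ≫ biprod.inl = 0 at hm
      have h1 : m ≫ biprod.fst = 0 := by
        rw [← cancel_mono (S.f ≫ (biprod.inl : S.X₂ ⟶ S.X₂ ⊞ (0 : A))), Category.assoc, hm, zero_comp]
      obtain ⟨T', π, hπ, x, hx⟩ := surjective_up_to_refinements_of_epi S.g (m ≫ biprod.snd ≫ biprod.fst)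
      refine ⟨T', π, hπ, x ≫ biprod.inl, ?_⟩
      show π ≫ m = (x ≫ (biprod.inl : S.X₂ ⟶ S.X₂ ⊞ (0 : A))) ≫
        biprod.fst ≫ S.g ≫ (biprod.inl : S.X₃ ⟶ S.X₃ ⊞ (0 : A)) ≫ biprod.inr
      simp only [Category.assoc, biprod.inl_fst_assoc]
      apply biprod.hom_ext
      · simp [h1]
      · apply biprod.hom_ext
        · simp [hx]
        · exact (isZero_zero A).eq_of_tgt _ _
    · rw [ShortComplex.exact_iff_exact_up_to_refinements]
      intro T m hm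
      change T ⟶ S.X₂ ⊞ (0 : A) at m
      change m ≫ biprod.fst ≫ S.g ≫ biprod.inl ≫ biprod.inr = 0 at hm
      have h1 : (m ≫ biprod.fst) ≫ S.g = 0 := by
        rw [← cancel_mono ((biprod.inl : S.X₃ ⟶ S.X₃ ⊞ (0 : A)) ≫ (biprod.inr : _ ⟶ S.X₁ ⊞ _)), Category.assoc,
          Category.assoc, hm, zero_comp]
      obtain ⟨T', π, hπ, x, hx⟩ := hS.exact.exact_up_to_refinements _ h1
      refine ⟨T', π, hπ, x ≫ biprod.inl, ?_⟩
      show π ≫ m = (x ≫ (biprod.inl : S.X₁ ⟶ S.X₁ ⊞ (S.X₃ ⊞ (0 : A)))) ≫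
        biprod.fst ≫ S.f ≫ (biprod.inl : S.X₂ ⟶ S.X₂ ⊞ (0 : A))
      simp only [Category.assoc, biprod.inl_fst_assoc]
      apply biprod.hom_ext
      · simp [hx]
      · exact (isZero_zero A).eq_of_tgt _ _
    · simp [fsum]; abel
  | zero =>
    exact ⟨[], [], 0, 0, zero_comp, zero_comp, ShortComplex.exact_of_isZero_X₂ _ (isZero_zero A),
      ShortComplex.exact_of_isZero_X₂ _ (isZero_zero A), sub_self _⟩
  | add a b _ _ ha hb =>
    obtain ⟨l₀, l₁, φ, ψ, h₁, h₂, e₁, e₂, rfl⟩ := ha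
    obtain ⟨l₀', l₁', φ', ψ', h₁', h₂', e₁', e₂', rfl⟩ := hb
    obtain ⟨i₀⟩ := bsum_append l₀ l₀'
    obtain ⟨i₁⟩ := bsum_append l₁ l₁'
    refine ⟨l₀ ++ l₀', l₁ ++ l₁', i₀.hom ≫ biprod.map φ φ' ≫ i₁.inv, i₁.hom ≫ biprod.map ψ ψ' ≫ i₀.inv,
      ?_, ?_, ?_, ?_, by rw [fsum_append, fsum_append]; abel⟩
    · simp only [Category.assoc, Iso.inv_hom_id_assoc]
      rw [← reassoc_of% (show biprod.map φ φ' ≫ biprod.map ψ ψ' = biprod.map (φ ≫ ψ) (φ' ≫ ψ') by ext <;> simp).symm]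
      rw [h₁, h₁']
      simp [show biprod.map (0 : bsum l₀ ⟶ bsum l₀) (0 : bsum l₀' ⟶ bsum l₀') = 0 by ext <;> simp]
    · simp only [Category.assoc, Iso.inv_hom_id_assoc]
      rw [← reassoc_of% (show biprod.map ψ ψ' ≫ biprod.map φ φ' = biprod.map (ψ ≫ φ) (ψ' ≫ φ') by ext <;> simp).symm]
      rw [h₂, h₂']
      simp [show biprod.map (0 : bsum l₁ ⟶ bsum l₁) (0 : bsum l₁' ⟶ bsum l₁') = 0 by ext <;> simp]
    · exact exact_conj _ _ i₀ i₁ i₀ rfl rfl (exact_map h₁ h₁' e₁ e₁'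
        (by ext <;> simp [h₁, h₁']))
    · exact exact_conj _ _ i₁ i₀ i₁ rfl rfl (exact_map h₂ h₂' e₂ e₂'
        (by ext <;> simp [h₂, h₂']))
  | neg a _ ha =>
    obtain ⟨l₀, l₁, φ, ψ, h₁, h₂, e₁, e₂, rfl⟩ := ha
    exact ⟨l₁, l₀, ψ, φ, h₂, h₁, e₂, e₁, by abel⟩

theorem nonempty_homology_iso (S : ShortComplex A) {X : A} (j : X ⟶ S.X₂) (hj : j ≫ S.g = 0) (q : S.X₂ ⟶ X)
    (hq : S.f ≫ q = 0) (hjq : j ≫ q = 𝟙 X)
    (hex : ∀ ⦃T : A⦄ (m : T ⟶ S.X₂), m ≫ S.g = 0 → m ≫ q = 0 →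
      ∃ (T' : A) (π : T' ⟶ T) (_ : Epi π) (x : T' ⟶ S.X₁), π ≫ m = x ≫ S.f) :
    Nonempty (X ≅ S.homology) := by
  let h : X ⟶ S.homology := S.liftCycles j hj ≫ S.homologyπ
  let k : S.homology ⟶ X := S.homologyι ≫ S.descOpcycles q hq
  have hπk : S.homologyπ ≫ k = S.iCycles ≫ q := by simp [k]
  have hk : Mono k := by
    rw [Preadditive.mono_iff_cancel_zero]
    intro T γ hγ
    obtain ⟨T', π, hπ, z, hz, hzγ⟩ := S.eq_liftCycles_homologyπ_up_to_refinements γ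
    have h0 : z ≫ q = 0 := by
      have := congrArg (· ≫ k) hzγ
      simp only [Category.assoc, hγ, comp_zero, hπk, ShortComplex.liftCycles_i_assoc] at this
      exact this.symm
    obtain ⟨T'', π', hπ', x, hx⟩ := hex z hz h0
    rw [← cancel_epi π, comp_zero, hzγ]
    exact (S.liftCycles_comp_homologyπ_eq_zero_iff_up_to_refinements z hz).2 ⟨T'', π', hπ', x, hx⟩
  have hhk : h ≫ k = 𝟙 X := by simp [h, hπk, hjq]
  exact ⟨⟨h, k, hhk, by rw [← cancel_mono k, Category.assoc, hhk, Category.comp_id, Category.id_comp]⟩⟩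

theorem nonempty_homology_pad {M N X Y : A} {φ : M ⟶ N} {ψ : N ⟶ M} (h₁ : φ ≫ ψ = 0)
    (hex : (ShortComplex.mk φ ψ h₁).Exact) (e : Y ⊞ M ≅ X ⊞ N)
    (w : (biprod.map (0 : Y ⟶ X) φ ≫ e.inv) ≫ (e.hom ≫ biprod.map (0 : X ⟶ Y) ψ) = 0) :
    Nonempty (X ≅ (ShortComplex.mk (biprod.map (0 : Y ⟶ X) φ ≫ e.inv) (e.hom ≫ biprod.map (0 : X ⟶ Y) ψ) w).homology) := by
  refine nonempty_homology_iso _ (biprod.inl ≫ e.inv) ?_ (e.hom ≫ biprod.fst) ?_ ?_ ?_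
  · simp
  · simp
  · simp
  · intro T m hm hm'
    dsimp at m hm hm' ⊢
    obtain ⟨T', π, hπ, x, hx⟩ := hex.exact_up_to_refinements (m ≫ e.hom ≫ biprod.snd) (by
      have := hm =≫ biprod.snd
      simpa using this)
    dsimp at x hx
    refine ⟨T', π, hπ, x ≫ biprod.inr, ?_⟩
    rw [← cancel_mono e.hom]
    apply biprod.hom_ext
    · simp [hm']
    · simp [hx]

theorem exists_list_eq (P : ObjectProperty A) (x : FreeAbelianGroup (Subtype P)) :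
    ∃ l l' : List (Subtype P), x = (l.map FreeAbelianGroup.of).sum - (l'.map FreeAbelianGroup.of).sum := by
  induction x using FreeAbelianGroup.induction_on with
  | zero => exact ⟨[], [], by simp⟩
  | of a => exact ⟨[a], [], by simp⟩
  | neg a _ => exact ⟨[], [a], by simp⟩
  | add a b ha hb =>
    obtain ⟨l, l', rfl⟩ := ha
    obtain ⟨m, m', rfl⟩ := hb
    exact ⟨l ++ m, l' ++ m', by simp [List.sum_append]; abel⟩

theorem clSub_add' (P : ObjectProperty A) (S : ShortComplex A) (hS : S.ShortExact) (h₁ : P S.X₁) (h₂ : P S.X₂)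
    (h₃ : P S.X₃) : KZero.clSub P S.X₂ = KZero.clSub P S.X₁ + KZero.clSub P S.X₃ := by
  simp only [KZero.clSub, dif_pos h₁, dif_pos h₂, dif_pos h₃, ← QuotientAddGroup.mk_add]
  rw [QuotientAddGroup.eq_iff_sub_mem]
  exact AddSubgroup.subset_closure ⟨S, h₁, h₂, h₃, hS, by abel⟩

theorem exists_obj_eq (P : ObjectProperty A) [P.IsSerreClass] : ∀ l : List (Subtype P),
    P (bsum (l.map (·.1))) ∧
      KZero.clSub P (bsum (l.map (·.1))) = QuotientAddGroup.mk ((l.map FreeAbelianGroup.of).sum)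
  | [] => by
    refine ⟨P.prop_of_isZero (isZero_zero A), ?_⟩
    have hS : (ShortComplex.mk (0 : (0 : A) ⟶ 0) (0 : (0 : A) ⟶ 0) zero_comp).ShortExact :=
      { exact := ShortComplex.exact_of_isZero_X₂ _ (isZero_zero A)
        mono_f := ⟨fun _ _ _ => (isZero_zero A).eq_of_tgt _ _⟩
        epi_g := ⟨fun _ _ _ => (isZero_zero A).eq_of_src _ _⟩ }
    have h0 : P (0 : A) := P.prop_of_isZero (isZero_zero A)
    exact add_eq_left.1 (clSub_add' P _ hS h0 h0 h0).symm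
  | X :: l => by
    obtain ⟨hl, hcl⟩ := exists_obj_eq P l
    have hS := (ShortComplex.Splitting.ofHasBinaryBiproduct X.1 (bsum (l.map (·.1)))).shortExact
    have h : P (X.1 ⊞ bsum (l.map (·.1))) := (P.prop_iff_of_shortExact hS).2 ⟨X.2, hl⟩
    refine ⟨h, ?_⟩
    rw [List.map_cons, bsum, clSub_add' P _ hS X.2 h hl, hcl, List.map_cons, List.sum_cons, QuotientAddGroup.mk_add]
    exact congrArg (· + _) (dif_pos X.2)

theorem ker_iff (P : ObjectProperty A) [P.IsSerreClass] (ι : KZero.K0sub P →+ KZero.K0 A)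
    (hι : ∀ X : A, P X → ι (KZero.clSub P X) = KZero.cl X) (x : KZero.K0sub P) :
    ι x = 0 ↔
      ∃ (M : A) (φ ψ : M ⟶ M) (h₁ : φ ≫ ψ = 0) (h₂ : ψ ≫ φ = 0),
        P (ShortComplex.mk φ ψ h₁).homology ∧ P (ShortComplex.mk ψ φ h₂).homology ∧
        x = KZero.clSub P (ShortComplex.mk φ ψ h₁).homology - KZero.clSub P (ShortComplex.mk ψ φ h₂).homology := by
  constructor
  · intro hx
    obtain ⟨x, rfl⟩ := QuotientAddGroup.mk_surjective x
    obtain ⟨l, l', rfl⟩ := exists_list_eq P x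
    obtain ⟨hX, hclX⟩ := exists_obj_eq P l
    obtain ⟨hY, hclY⟩ := exists_obj_eq P l'
    generalize hXdef : bsum (l.map (·.1)) = X at hX hclX
    generalize hYdef : bsum (l'.map (·.1)) = Y at hY hclY
    have hx' : (QuotientAddGroup.mk ((l.map FreeAbelianGroup.of).sum - (l'.map FreeAbelianGroup.of).sum) : KZero.K0sub P) =
        KZero.clSub P X - KZero.clSub P Y := by
      rw [hclX, hclY]; rfl
    rw [hx'] at hx ⊢
    rw [map_sub, hι X hX, hι Y hY] at hx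
    have hmem : FreeAbelianGroup.of X - FreeAbelianGroup.of Y ∈ KZero.relAb A :=
      QuotientAddGroup.eq_iff_sub_mem.1 (sub_eq_zero.1 hx)
    obtain ⟨l₀, l₁, φ, ψ, h₁, h₂, e₁, e₂, hz⟩ := realizes_of_mem hmem
    have hperm : (Y :: l₀).Perm (X :: l₁) := perm_of_fsum_eq (by
      have hz' : fsum l₀ = FreeAbelianGroup.of X - FreeAbelianGroup.of Y + fsum l₁ := sub_eq_iff_eq_add.1 hz
      simp only [fsum, List.map_cons, List.sum_cons] at hz' ⊢
      rw [hz']; abel)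
    obtain ⟨e⟩ : Nonempty (Y ⊞ bsum l₀ ≅ X ⊞ bsum l₁) := bsum_perm hperm
    refine ⟨Y ⊞ bsum l₀, biprod.map (0 : Y ⟶ X) φ ≫ e.inv, e.hom ≫ biprod.map (0 : X ⟶ Y) ψ, ?_, ?_, ?_⟩
    · rw [Category.assoc, Iso.inv_hom_id_assoc]
      ext <;> simp [h₁]
    · rw [Category.assoc, ← Category.assoc (biprod.map (0 : X ⟶ Y) ψ)]
      rw [show biprod.map (0 : X ⟶ Y) ψ ≫ biprod.map (0 : Y ⟶ X) φ = 0 by ext <;> simp [h₂], zero_comp, comp_zero]
    · obtain ⟨i⟩ := nonempty_homology_pad h₁ e₁ e (by rw [Category.assoc, Iso.inv_hom_id_assoc]; ext <;> simp [h₁])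
      have w : (e.hom ≫ biprod.map (0 : X ⟶ Y) ψ) ≫ biprod.map (0 : Y ⟶ X) φ ≫ e.inv = 0 := by
        rw [Category.assoc, ← Category.assoc (biprod.map (0 : X ⟶ Y) ψ)]
        rw [show biprod.map (0 : X ⟶ Y) ψ ≫ biprod.map (0 : Y ⟶ X) φ = 0 by ext <;> simp [h₂], zero_comp, comp_zero]
      obtain ⟨k⟩ : Nonempty (Y ≅ (ShortComplex.mk _ _ w).homology) := by
        obtain ⟨k₀⟩ := nonempty_homology_pad h₂ e₂ e.symm (by
          rw [Category.assoc]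
          show biprod.map (0 : X ⟶ Y) ψ ≫ e.symm.inv ≫ e.symm.hom ≫ biprod.map (0 : Y ⟶ X) φ = 0
          rw [Iso.inv_hom_id_assoc]
          ext <;> simp [h₂])
        refine ⟨k₀ ≪≫ ShortComplex.homologyMapIso (ShortComplex.isoMk e.symm e.symm e.symm ?_ ?_)⟩
        · simp
        · simp
      have hY' := P.prop_of_iso k hY
      refine ⟨P.prop_of_iso i hX, hY', ?_⟩
      have hcongr : ∀ {U V : A} (_ : U ≅ V), P U → KZero.clSub P U = KZero.clSub P V := by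
        intro U V f hU
        have hS : (ShortComplex.mk f.hom (0 : V ⟶ (0 : A)) comp_zero).ShortExact :=
          { exact := (ShortComplex.exact_iff_epi _ rfl).2 inferInstance
            mono_f := inferInstance
            epi_g := ⟨fun _ _ _ => (isZero_zero A).eq_of_src _ _⟩ }
        have h0 : P (0 : A) := P.prop_of_isZero (isZero_zero A)
        rw [clSub_add' P _ hS hU (P.prop_of_iso f hU) h0]
        conv_lhs => rw [← add_zero (KZero.clSub P U)]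
        congr 1
        exact ((exists_obj_eq P []).2).symm
      rw [hcongr i hX, hcongr k hY]
  · rintro ⟨M, φ, ψ, h₁, h₂, hH1, hH2, rfl⟩
    rw [map_sub, hι _ hH1, hι _ hH2, cl_homology, cl_homology]
    dsimp
    abel

end K0SerreLib
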