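import Groth.Agent.K0SerreLib.Basic
import Mathlib.CategoryTheory.Abelian.SerreClass.Localization

/-! # `K₀` of a Serre quotient -/

set_option autoImplicit false

universe v v' u u'

open CategoryTheory CategoryTheory.Limits

namespace K0SerreLib

variable {A : Type u} [Category.{v} A] [Abelian A] (P : ObjectProperty A) [P.IsSerreClass]
  {Q : Type u'} [Category.{v'} Q] [Abelian Q]
  (L : A ⥤ Q) [L.IsLocalization P.isoModSerre] [L.Additive] [PreservesFiniteLimits L] [PreservesFiniteColimits L]

theorem quot_exact (ι : KZero.K0sub P →+ KZero.K0 A) (lam : KZero.K0 A →+ KZero.K0 Q)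
    (hι : ∀ X : A, P X → ι (KZero.clSub P X) = KZero.cl X) (hlam : ∀ X : A, lam (KZero.cl X) = KZero.cl (L.obj X)) :
    Function.Surjective lam ∧ lam.ker = ι.range := by
  haveI : L.EssSurj := Localization.essSurj L P.isoModSerre
  constructor
  · intro y
    obtain ⟨y, rfl⟩ := QuotientAddGroup.mk'_surjective _ y
    induction y using FreeAbelianGroup.induction_on with
    | zero => exact ⟨0, map_zero _⟩
    | of Z => exact ⟨KZero.cl (L.objPreimage Z), (hlam _).trans (cl_iso (L.objObjPreimageIso Z))⟩
    | neg Z h => obtain ⟨x, hx⟩ := h; exact ⟨-x, by rw [map_neg, map_neg, hx]⟩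
    | add a b ha hb =>
      obtain ⟨x, hx⟩ := ha; obtain ⟨x', hx'⟩ := hb
      exact ⟨x + x', by rw [map_add, map_add, hx, hx']⟩
  · apply le_antisymm
    swap
    · rintro _ ⟨x, rfl⟩
      obtain ⟨x, rfl⟩ := QuotientAddGroup.mk'_surjective _ x
      show lam (ι _) = 0
      induction x using FreeAbelianGroup.induction_on with
      | zero => simp
      | of X =>
        have hX : KZero.clSub P X.1 = QuotientAddGroup.mk (FreeAbelianGroup.of X) := dif_pos X.2
        rw [show (QuotientAddGroup.mk' (KZero.relSub P)) (FreeAbelianGroup.of X) = KZero.clSub P X.1 from hX.symm,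
          hι _ X.2, hlam]
        exact cl_isZero ((ObjectProperty.SerreClassLocalization.isZero_obj_iff L P X.1).2 X.2)
      | neg X h => rw [map_neg, map_neg, map_neg, h, neg_zero]
      | add a b ha hb => rw [map_add, map_add, map_add, ha, hb, add_zero]
    let G := KZero.K0 A ⧸ ι.range
    let θ : A → G := fun X => QuotientAddGroup.mk (KZero.cl X)
    have hP : ∀ X, P X → θ X = 0 := fun X hX =>
      (QuotientAddGroup.eq_zero_iff _).2 ⟨KZero.clSub P X, hι X hX⟩
    have hW : ∀ {X Y : A} (s : X ⟶ Y), P.isoModSerre s → θ X = θ Y := by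
      intro X Y s hs
      have h := congrArg (QuotientAddGroup.mk (s := ι.range)) (cl_hom s)
      rw [QuotientAddGroup.mk_add, QuotientAddGroup.mk_add] at h
      change θ X + θ (cokernel s) = θ (kernel s) + θ Y at h
      rwa [hP _ hs.2, hP _ hs.1, add_zero, zero_add] at h
    have hiso : ∀ {X Y : A}, (L.obj X ≅ L.obj Y) → θ X = θ Y := by
      intro X Y e
      obtain ⟨φ, hφ⟩ := Localization.exists_rightFraction L P.isoModSerre e.hom
      have hinv : IsIso (L.map φ.s) := Localization.inverts L P.isoModSerre _ φ.hs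
      have hf : L.map φ.f = L.map φ.s ≫ e.hom := by
        rw [hφ, MorphismProperty.RightFraction.map_s_comp_map]
      have : IsIso (L.map φ.f) := by rw [hf]; infer_instance
      exact (hW φ.s φ.hs).symm.trans (hW φ.f ((ObjectProperty.SerreClassLocalization.isIso_map_iff L P φ.f).1 this))
    let g : Q → G := fun Z => θ (L.objPreimage Z)
    have hg : ∀ S : ShortComplex Q, S.ShortExact → g S.X₂ = g S.X₁ + g S.X₃ := by
      intro S hS
      haveI := hS.mono_f
      haveI := hS.epi_g
      obtain ⟨φ, hφ⟩ := Localization.exists_rightFraction L P.isoModSerre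
        ((L.objObjPreimageIso S.X₂).hom ≫ S.g ≫ (L.objObjPreimageIso S.X₃).inv)
      haveI hinv : IsIso (L.map φ.s) := Localization.inverts L P.isoModSerre _ φ.hs
      have hf : L.map φ.f ≫ (L.objObjPreimageIso S.X₃).hom = (L.map φ.s ≫ (L.objObjPreimageIso S.X₂).hom) ≫ S.g := by
        rw [← MorphismProperty.RightFraction.map_s_comp_map φ L (Localization.inverts L P.isoModSerre), ← hφ]
        simp
      haveI : Epi (L.map φ.f) := by
        have : L.map φ.f = ((L.map φ.s ≫ (L.objObjPreimageIso S.X₂).hom) ≫ S.g) ≫ (L.objObjPreimageIso S.X₃).inv := by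
          rw [← hf, Category.assoc, Iso.hom_inv_id, Category.comp_id]
        rw [this]; infer_instance
      have hcok : P (cokernel φ.f) := (ObjectProperty.SerreClassLocalization.epi_map_iff L P φ.f).1 inferInstance
      have e : L.obj (L.objPreimage S.X₁) ≅ L.obj (kernel φ.f) :=
        L.objObjPreimageIso S.X₁ ≪≫ hS.fIsKernel.conePointUniqueUpToIso (kernelIsKernel S.g) ≪≫
          (kernel.mapIso (L.map φ.f) S.g (asIso (L.map φ.s ≫ (L.objObjPreimageIso S.X₂).hom))
            (L.objObjPreimageIso S.X₃) hf).symm ≪≫ (PreservesKernel.iso L φ.f).symm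
      have h := congrArg (QuotientAddGroup.mk (s := ι.range)) (cl_hom φ.f)
      rw [QuotientAddGroup.mk_add, QuotientAddGroup.mk_add] at h
      change θ φ.X' + θ (cokernel φ.f) = θ (kernel φ.f) + θ (L.objPreimage S.X₃) at h
      rw [hP _ hcok, add_zero, hW φ.s φ.hs, ← hiso e] at h
      exact h
    let ρ : KZero.K0 Q →+ G := QuotientAddGroup.lift _ (FreeAbelianGroup.lift g) (by
      rw [KZero.relAb, AddSubgroup.closure_le]
      rintro _ ⟨S, hS, rfl⟩
      simp [hg S hS])
    have hcomp : ρ.comp lam = QuotientAddGroup.mk' ι.range := by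
      apply QuotientAddGroup.addMonoidHom_ext
      ext X
      show ρ (lam (KZero.cl X)) = θ X
      rw [hlam]
      show FreeAbelianGroup.lift g (FreeAbelianGroup.of (L.obj X)) = θ X
      rw [FreeAbelianGroup.lift_apply_of]
      exact hiso (L.objObjPreimageIso (L.obj X))
    intro x hx
    refine (QuotientAddGroup.eq_zero_iff x).1 ?_
    show QuotientAddGroup.mk' ι.range x = 0
    rw [← hcomp, AddMonoidHom.comp_apply, hx, map_zero]

end K0SerreLib
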